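import Cfsg.Agent.H256.EX.Std
import Cfsg.Agent.H931.KC.Alcove
import Cfsg.Agent.H81.DerRoot

/-!
# S3509, MIX M4: generation by opposite unipotent radicals (helper256)

`gen_pm` : `z⁻¹ σ(z) = n`, `α = conj n ∘ σ` a frame automorphism over `θ`, `lam ∘ θ = lam`, `lam` not zero on the roots:
`ι K₀` is contained in every subgroup containing `z x z⁻¹` for the `α`-fixed elements `x` of the groups generated by the
root groups with `0 < lam`, respectively `lam < 0`.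
-/

set_option autoImplicit false
set_option linter.unusedSectionVars false

namespace Cfsg.Agent.H256.EX

open CoxeterSystem Cfsg Cfsg.Lie Cfsg.Lie.ChevalleyDatum
open Cfsg.Agent.ChevalleyStructure Cfsg.Agent.ChevalleyStructure.Elts Cfsg.Agent.ChevalleyStructure.CoxeterGeom
  Cfsg.Agent.ChevalleyStructure.CoxeterGeomTypes Cfsg.Agent.ChevalleyStructure.NPerm
open Cfsg.Agent.Tits.Roots Cfsg.Agent.Tits.Core Cfsg.Agent.Nodes Cfsg.Agent.Nodes.Reps Cfsg.Agent.Nodes.BNOf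
  Cfsg.Agent.Nodes.RGDChev Cfsg.Agent.Nodes.Bruhat Cfsg.Agent.Nodes.NormalForm Cfsg.Agent.Nodes.OppDec
open Cfsg.Agent.KFacts.RgdField Cfsg.Agent.KFacts.RgdChevCoord
open Cfsg.Agent.BpExc Cfsg.Agent.BpExc.TorCent Cfsg.Agent.BpExc.TorChev Cfsg.Agent.BpExc.Tow
  Cfsg.Agent.BpExc.TowChev Cfsg.Agent.BpExc.Fr Cfsg.Agent.BpExc.Pair Cfsg.Agent.BpExc.LangFr Cfsg.Agent.GpExc.Field
  Cfsg.Agent.BpExc.NInst Cfsg.Agent.BpExc.NChev
open Cfsg.Agent.H469.Exc Cfsg.Agent.H316.U6 Cfsg.Agent.H129.TorusChar Cfsg.Agent.H169.RG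

universe v

variable {D : ChevalleyDatum} {l : ℕ} {M : CoxeterMatrix (Fin l)} {hp : IsType D l M} {r q : ℕ} [hr : Fact r.Prime]
  {K₀ : Type v} [Group K₀]

theorem MData.nonneg_iff (m : MData hp r q K₀) (a : Fin l → ℤ) : 0 ≤ m.g a ↔ 0 ≤ a := by
  constructor
  · intro h i
    have h1 := h (m.π.symm i)
    rw [m.perm, Equiv.apply_symm_apply] at h1
    exact h1
  · exact fun h => m.pos h

include hp in
/-- a dominant functional which is not zero on the roots is positive on the highest root -/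
theorem pos_top {lam : (Fin l → ℤ) →+ ℤ} (hdom : ∀ a, IsRoot M.toCoxeterSystem hp.isCartan a → 0 ≤ a → 0 ≤ lam a)
    (hne : ∃ b, IsRoot M.toCoxeterSystem hp.isCartan b ∧ lam b ≠ 0) : 0 < lam (vec D l (D.nroots - 1)) := by
  obtain ⟨Bm, hv, v, C, H⟩ := H931.KC.exists_ok hp
  obtain ⟨b, hb, hb0⟩ := hne
  obtain ⟨b', hb', h0, hpos⟩ : ∃ b', IsRoot M.toCoxeterSystem hp.isCartan b' ∧ 0 ≤ b' ∧ 0 < lam b' := by
    rcases hb.pos_or_neg with h1 | h1
    · exact ⟨b, hb, h1, lt_of_le_of_ne (hdom b hb h1) (Ne.symm hb0)⟩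
    · refine ⟨-b, hb.neg, neg_nonneg.2 h1, lt_of_le_of_ne (hdom _ hb.neg (neg_nonneg.2 h1)) ?_⟩
      rw [map_neg]
      exact fun h => hb0 (neg_eq_zero.1 h.symm)
  have h2 : 0 ≤ lam (vec D l (D.nroots - 1) - b') := by
    rw [H931.KC.eq_psi lam]
    refine Finset.sum_nonneg fun i _ => mul_nonneg ?_ (hdom _ (isRoot_sr _ _ i) (sr_nonneg i))
    rw [Pi.sub_apply]
    exact sub_nonneg.2 (H931.KC.le_hr hp H hb' i)
  rw [map_sub] at h2
  omega

/-- **Generation in standard position.** -/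
theorem gen_std (m : MData hp r q K₀) [IsSimpleGroup K₀] {lam : (Fin l → ℤ) →+ ℤ}
    (hdom : ∀ a, IsRoot M.toCoxeterSystem hp.isCartan a → 0 ≤ a → 0 ≤ lam a) (hg : ∀ x, lam (m.g x) = lam x)
    (hne : ∃ b, IsRoot M.toCoxeterSystem hp.isCartan b ∧ lam b ≠ 0) :
    m.ι.range ≤ HH m.σ (RGD.Sup (XX D l (KK r)) (PL M.toCoxeterSystem hp.isCartan lam))
      (RGD.Sup (XX D l (KK r)) (NL M.toCoxeterSystem hp.isCartan lam)) := by
  have := finite_W hp M.toCoxeterSystem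
  have hXL := XL_eq (k := KK r) hp (locFin r)
  have H := tow (k := KK r) hp M.toCoxeterSystem (locFin r) r
  have htriv := inf_trivial H lam hdom
  rw [hXL] at htriv
  have hroot := m.fr.root
  have hsig : ∀ {S : Set (Fin l → ℤ)}, (∀ a ∈ S, IsRoot M.toCoxeterSystem hp.isCartan a) → (∀ a, m.g a ∈ S ↔ a ∈ S) →
      ∀ x ∈ RGD.Sup (XX D l (KK r)) S, m.σ x ∈ RGD.Sup (XX D l (KK r)) S := fun hS hSS x hx =>
    (m.fr.mem_Sup hS hSS x).2 hx
  have hPs : ∀ a, m.g a ∈ PL M.toCoxeterSystem hp.isCartan lam ↔ a ∈ PL M.toCoxeterSystem hp.isCartan lam := fun a => by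
    show _ ∧ _ ↔ _ ∧ _
    rw [hroot, hg]
  have hNs : ∀ a, m.g a ∈ NL M.toCoxeterSystem hp.isCartan lam ↔ a ∈ NL M.toCoxeterSystem hp.isCartan lam := fun a => by
    show _ ∧ _ ↔ _ ∧ _
    rw [hroot, hg]
  have hZs : ∀ a, m.g a ∈ ZL M.toCoxeterSystem hp.isCartan lam ↔ a ∈ ZL M.toCoxeterSystem hp.isCartan lam := fun a => by
    show _ ∧ _ ↔ _ ∧ _
    rw [hroot, hg]
  have hneg_iff : ∀ a, m.g a ≤ 0 ↔ a ≤ 0 := fun a => by
    rw [← neg_nonneg, ← map_neg, MData.nonneg_iff, neg_nonneg]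
  have nP : ∀ {S : Set (Fin l → ℤ)}, (∀ x ∈ S, IsRoot M.toCoxeterSystem hp.isCartan x ∧ 0 ≤ lam x) →
      RGD.Sup (XX D l (KK r)) S ≤ Subgroup.normalizer
        (RGD.Sup (XX D l (KK r)) (PL M.toCoxeterSystem hp.isCartan lam) : Set ↥(D.group (KK r))) := by
    intro S hS
    have := Sup_le_norm_PL H lam hS
    rwa [hXL] at this
  have nN : ∀ {S : Set (Fin l → ℤ)}, (∀ x ∈ S, IsRoot M.toCoxeterSystem hp.isCartan x ∧ lam x ≤ 0) →
      RGD.Sup (XX D l (KK r)) S ≤ Subgroup.normalizer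
        (RGD.Sup (XX D l (KK r)) (NL M.toCoxeterSystem hp.isCartan lam) : Set ↥(D.group (KK r))) := by
    intro S hS
    have := Sup_le_norm_PL H (-lam) (S := S) fun x hx => ⟨(hS x hx).1, by
      rw [AddMonoidHom.neg_apply]; exact neg_nonneg.2 (hS x hx).2⟩
    rwa [hXL, ← nl_eq_pl] at this
  set HHs := HH m.σ (RGD.Sup (XX D l (KK r)) (PL M.toCoxeterSystem hp.isCartan lam))
      (RGD.Sup (XX D l (KK r)) (NL M.toCoxeterSystem hp.isCartan lam)) with hHHs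
  -- everything normalises `HHs`
  have hN : (Subgroup.normalizer (HHs : Set ↥(D.group (KK r)))).comap m.ι = ⊤ := by
    apply m.gen
    · intro a ha
      rw [Subgroup.mem_comap]
      refine norm_of_dec (A₀ := RGD.Sup (XX D l (KK r)) {a | a ∈ ZL M.toCoxeterSystem hp.isCartan lam ∧ 0 ≤ a})
        ?_ ?_ htriv.1 ?_ ?_ ?_ (m.fix a)
      · exact hsig (fun a ha => ha.1.1) fun a => by
          show _ ∧ _ ↔ _ ∧ _
          rw [hZs, MData.nonneg_iff]
      · exact hsig (fun a ha => ha.1) hPs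
      · exact nP fun x hx => ⟨hx.1.1, hx.1.2.ge⟩
      · exact nN fun x hx => ⟨hx.1.1, hx.1.2.le⟩
      · refine RGD.Sup_le (K := _ ⊔ _) (fun b hb => ?_) ha
        rcases eq_or_lt_of_le (hdom b hb.1 hb.2) with h1 | h1
        · exact (RGD.le_Sup (X := XX D l (KK r)) (S := {a | a ∈ ZL M.toCoxeterSystem hp.isCartan lam ∧ 0 ≤ a})
            ⟨⟨hb.1, h1.symm⟩, hb.2⟩).trans le_sup_left
        · exact (RGD.le_Sup (X := XX D l (KK r)) (S := PL M.toCoxeterSystem hp.isCartan lam) ⟨hb.1, h1⟩).trans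
            le_sup_right
    · intro a ha
      rw [Subgroup.mem_comap, hHHs, HH_comm]
      refine norm_of_dec (A₀ := RGD.Sup (XX D l (KK r)) {a | a ∈ ZL M.toCoxeterSystem hp.isCartan lam ∧ a ≤ 0})
        ?_ ?_ htriv.2 ?_ ?_ ?_ (m.fix a)
      · exact hsig (fun a ha => ha.1.1) fun a => by
          show _ ∧ _ ↔ _ ∧ _
          rw [hZs, hneg_iff]
      · exact hsig (fun a ha => ha.1) hNs
      · exact nN fun x hx => ⟨hx.1.1, hx.1.2.le⟩
      · exact nP fun x hx => ⟨hx.1.1, hx.1.2.ge⟩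
      · refine RGD.Sup_le (K := _ ⊔ _) (fun b hb => ?_) ha
        have h0 := hdom _ hb.1.neg (neg_nonneg.2 hb.2)
        rw [map_neg, neg_nonneg] at h0
        rcases eq_or_lt_of_le h0 with h1 | h1
        · exact (RGD.le_Sup (X := XX D l (KK r)) (S := {a | a ∈ ZL M.toCoxeterSystem hp.isCartan lam ∧ a ≤ 0})
            ⟨⟨hb.1, h1⟩, hb.2⟩).trans le_sup_left
        · exact (RGD.le_Sup (X := XX D l (KK r)) (S := NL M.toCoxeterSystem hp.isCartan lam) ⟨hb.1, h1⟩).trans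
            le_sup_right
  have hnorm : (HHs.comap m.ι).Normal := by
    refine ⟨fun b hb c => ?_⟩
    have h1 : c ∈ (Subgroup.normalizer (HHs : Set ↥(D.group (KK r)))).comap m.ι := by rw [hN]; exact Subgroup.mem_top c
    rw [Subgroup.mem_comap] at hb ⊢
    rw [map_mul, map_mul, map_inv]
    exact (Subgroup.mem_normalizer_iff.1 (Subgroup.mem_comap.1 h1) _).1 hb
  rcases hnorm.eq_bot_or_eq_top with h1 | h1
  · exfalso
    obtain ⟨u, hu, hu'⟩ := H81.Der.exists_root_elt m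
    have h2 : vec D l (D.nroots - 1) ∈ PL M.toCoxeterSystem hp.isCartan lam := by
      refine ⟨isRoot_vec hp _ (Nat.sub_lt (H81.Der.nroots_pos' hp.inList) one_pos), ?_⟩
      exact pos_top (hp := hp) hdom hne
    have h3 : u ∈ HHs.comap m.ι := by
      rw [Subgroup.mem_comap]
      exact mem_HH_left (RGD.le_Sup h2 hu') (m.fix u)
    rw [h1, Subgroup.mem_bot] at h3
    rw [h3, orderOf_one] at hu
    exact hr.out.one_lt.ne hu
  · rintro _ ⟨a, rfl⟩
    have h2 : a ∈ HHs.comap m.ι := by rw [h1]; exact Subgroup.mem_top a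
    exact h2

/-- **Generation by the fixed points of opposite unipotent radicals.** -/
theorem gen_pm (m : MData hp r q K₀) [IsSimpleGroup K₀] {d : ℕ} {B : Fin l → Fin l → ℤ} (hB : InvC D l d B) (hd : d ≠ 0)
    {z n : ↥(D.group (KK r))} (hz : z⁻¹ * m.σ z = n) {θ : (Fin l → ℤ) ≃+ (Fin l → ℤ)}
    (F : Fr M.toCoxeterSystem hp.isCartan (TT D (KK r)) (XX D l (KK r)) (MulAut.conj n * m.σ) θ)
    (lam : (Fin l → ℤ) →+ ℤ) (hlam : ∀ x, lam (θ x) = lam x)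
    (hne : ∃ b, IsRoot M.toCoxeterSystem hp.isCartan b ∧ lam b ≠ 0) (H' : Subgroup ↥(D.group (KK r)))
    (h1 : ∀ x ∈ RGD.Sup (XX D l (KK r)) (PL M.toCoxeterSystem hp.isCartan lam), (MulAut.conj n * m.σ) x = x →
      z * x * z⁻¹ ∈ H')
    (h2 : ∀ x ∈ RGD.Sup (XX D l (KK r)) (NL M.toCoxeterSystem hp.isCartan lam), (MulAut.conj n * m.σ) x = x →
      z * x * z⁻¹ ∈ H') : m.ι.range ≤ H' := by
  obtain ⟨c, lam', w, hc, hdom, hg, hlw, hP, hN⟩ := exists_std hp (locFin r) m.he m.frob m.fr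
    (fun a => MData.nonneg_iff m a) hB hd F lam hlam
  have hne' : ∃ b, IsRoot M.toCoxeterSystem hp.isCartan b ∧ lam' b ≠ 0 := by
    obtain ⟨b, hb, hb0⟩ := hne
    refine ⟨rep M.toCoxeterSystem hp.isCartan w⁻¹ b, hb.act _, ?_⟩
    rw [hlw, ← rep_mul_apply, mul_inv_cancel, map_one, Module.End.one_apply]
    exact hb0
  have hmain := gen_std m hdom hg hne'
  set HHs := HH m.σ (RGD.Sup (XX D l (KK r)) (PL M.toCoxeterSystem hp.isCartan lam'))
      (RGD.Sup (XX D l (KK r)) (NL M.toCoxeterSystem hp.isCartan lam')) with hHHs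
  have hd' : m.σ (z * c⁻¹) = z * c⁻¹ := by
    have e1 : m.σ z = z * n := by rw [← hz]; group
    have e2 : m.σ c = c * n := by rw [hc]; group
    rw [map_mul, map_inv, e1, e2]; group
  have hfix : ∀ y, m.σ y = y → (MulAut.conj n * m.σ) (c⁻¹ * y * c) = c⁻¹ * y * c := by
    intro y hy
    show n * m.σ (c⁻¹ * y * c) * n⁻¹ = _
    have e2 : m.σ c = c * n := by rw [hc]; group
    rw [map_mul, map_mul, map_inv, hy, e2]; group
  have hle : HHs ≤ H'.comap (MulAut.conj (z * c⁻¹)).toMonoidHom := by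
    rw [hHHs, HH, Subgroup.closure_le]
    rintro y (⟨hy, hs⟩ | ⟨hy, hs⟩)
    · have h3 := h1 _ (hP y hy) (hfix y hs)
      show z * c⁻¹ * y * (z * c⁻¹)⁻¹ ∈ H'
      have e : z * c⁻¹ * y * (z * c⁻¹)⁻¹ = z * (c⁻¹ * y * c) * z⁻¹ := by group
      rw [e]; exact h3
    · have h3 := h2 _ (hN y hy) (hfix y hs)
      show z * c⁻¹ * y * (z * c⁻¹)⁻¹ ∈ H'
      have e : z * c⁻¹ * y * (z * c⁻¹)⁻¹ = z * (c⁻¹ * y * c) * z⁻¹ := by group
      rw [e]; exact h3
  rintro _ ⟨a, rfl⟩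
  obtain ⟨a', ha'⟩ := m.norm (z * c⁻¹)⁻¹ (by rw [map_inv, hd']) a
  have h3 : m.ι a' ∈ HHs := hmain ⟨a', rfl⟩
  have h4 : (z * c⁻¹) * m.ι a' * (z * c⁻¹)⁻¹ ∈ H' := hle h3
  rw [ha'] at h4
  have e : z * c⁻¹ * ((z * c⁻¹)⁻¹ * m.ι a * (z * c⁻¹)⁻¹⁻¹) * (z * c⁻¹)⁻¹ = m.ι a := by group
  rwa [e] at h4

end Cfsg.Agent.H256.EX
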