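import Cfsg.Agent.H256.EX.GenA
import Cfsg.Agent.H169.RG.Toral
import Cfsg.Agent.H795.LangT

/-!
# S3509, MIX M4: a twisted frame with an invariant functional in standard position (helper256)

`σ` the Frobenius automorphism over `g` (preserving the positive roots), `α = conj n ∘ σ` a frame automorphism over `θ`,
`lam ∘ θ = lam`: there is `c` with `n = c⁻¹ σ(c)` which transports `lam` to a dominant `g`-invariant functional.
-/

set_option autoImplicit false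
set_option linter.unusedSectionVars false

namespace Cfsg.Agent.H256.EX

open CoxeterSystem Cfsg Cfsg.Lie Cfsg.Lie.ChevalleyDatum
open Cfsg.Agent.ChevalleyStructure Cfsg.Agent.ChevalleyStructure.Elts Cfsg.Agent.ChevalleyStructure.CoxeterGeom
  Cfsg.Agent.ChevalleyStructure.CoxeterGeomTypes Cfsg.Agent.ChevalleyStructure.NPerm
open Cfsg.Agent.Tits.Roots Cfsg.Agent.Tits.Core Cfsg.Agent.Nodes Cfsg.Agent.Nodes.Reps Cfsg.Agent.Nodes.BNOf
  Cfsg.Agent.Nodes.RGDChev Cfsg.Agent.Nodes.Bruhat Cfsg.Agent.Nodes.NormalForm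
open Cfsg.Agent.KFacts.RgdField Cfsg.Agent.KFacts.RgdChevCoord
open Cfsg.Agent.BpExc Cfsg.Agent.BpExc.TorCent Cfsg.Agent.BpExc.TorChev Cfsg.Agent.BpExc.Tow
  Cfsg.Agent.BpExc.TowChev Cfsg.Agent.BpExc.Fr Cfsg.Agent.BpExc.Pair Cfsg.Agent.BpExc.LangFr Cfsg.Agent.GpExc.Field
  Cfsg.Agent.BpExc.NInst Cfsg.Agent.BpExc.NChev
open Cfsg.Agent.H469.Exc Cfsg.Agent.H316.U6 Cfsg.Agent.H129.TorusChar Cfsg.Agent.H169.RG

universe u

section

variable {D : ChevalleyDatum} {l : ℕ} {M : CoxeterMatrix (Fin l)} (hp : IsType D l M) {k : Type u} [Field k]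
  {r : ℕ} [Fact r.Prime] [CharP k r]

include hp in
/-- **Standard position.** -/
theorem exists_std [IsAlgClosed k] (hk : LocFin k) {σ : MulAut ↥(D.group k)} {g : (Fin l → ℤ) ≃+ (Fin l → ℤ)} {e : ℕ}
    (he : 0 < e) (hσ : IsFrob r e σ) (Fσ : Fr M.toCoxeterSystem hp.isCartan (TT D k) (XX D l k) σ g)
    (hg : ∀ a, 0 ≤ g a ↔ 0 ≤ a) {d : ℕ} {B : Fin l → Fin l → ℤ} (hB : InvC D l d B) (hd : d ≠ 0)
    {n : ↥(D.group k)} {θ : (Fin l → ℤ) ≃+ (Fin l → ℤ)}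
    (F : Fr M.toCoxeterSystem hp.isCartan (TT D k) (XX D l k) (MulAut.conj n * σ) θ) (lam : (Fin l → ℤ) →+ ℤ)
    (hlam : ∀ x, lam (θ x) = lam x) :
    ∃ (c : ↥(D.group k)) (lam' : (Fin l → ℤ) →+ ℤ) (w : M.Group), n = c⁻¹ * σ c ∧
      (∀ a, IsRoot M.toCoxeterSystem hp.isCartan a → 0 ≤ a → 0 ≤ lam' a) ∧ (∀ x, lam' (g x) = lam' x) ∧
      (∀ x, lam' x = lam (rep M.toCoxeterSystem hp.isCartan w x)) ∧
      (∀ y ∈ RGD.Sup (XX D l k) (PL M.toCoxeterSystem hp.isCartan lam'),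
        c⁻¹ * y * c ∈ RGD.Sup (XX D l k) (PL M.toCoxeterSystem hp.isCartan lam)) ∧
      (∀ y ∈ RGD.Sup (XX D l k) (NL M.toCoxeterSystem hp.isCartan lam'),
        c⁻¹ * y * c ∈ RGD.Sup (XX D l k) (NL M.toCoxeterSystem hp.isCartan lam)) := by
  set cs := M.toCoxeterSystem with hcs
  have := finite_W hp cs
  have hTL := TL_eq (k := k) hp hk
  have hXL := XL_eq (k := k) hp hk
  have H := tow (k := k) hp cs hk r
  have hG := GG_eq_top (k := k) hp cs hk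
  obtain ⟨w, hw⟩ := exists_dom (cs := cs) (h := hp.isCartan) lam
  let lam' : (Fin l → ℤ) →+ ℤ := lam.comp (rep cs hp.isCartan w).toAddMonoidHom
  have hlam' : ∀ x, lam' x = lam (rep cs hp.isCartan w x) := fun _ => rfl
  obtain ⟨kk, -, hkk⟩ := H.exists_rp w
  have FL : Fr cs hp.isCartan (TL (Tj hp (k := k))) (XL (Xj hp (k := k))) (MulAut.conj n * σ) θ := by
    rw [hTL, hXL]; exact F
  have FσL : Fr cs hp.isCartan (TL (Tj hp (k := k))) (XL (Xj hp (k := k))) σ g := by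
    rw [hTL, hXL]; exact Fσ
  -- first change
  have F₁ := (Fr.conj H hkk.inv).mul (FL.mul (Fr.conj H hkk))
  have e1 : MulAut.conj kk⁻¹ * (MulAut.conj n * σ * MulAut.conj kk) = MulAut.conj (kk⁻¹ * n * σ kk) * σ := by
    refine MulEquiv.ext fun y => ?_
    show kk⁻¹ * (n * σ (kk * y * kk⁻¹) * n⁻¹) * kk⁻¹⁻¹ = kk⁻¹ * n * σ kk * σ y * (kk⁻¹ * n * σ kk)⁻¹
    rw [map_mul, map_mul, map_inv]; group
  rw [e1] at F₁
  set n₁ := kk⁻¹ * n * σ kk with hn₁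
  set θ₁ : (Fin l → ℤ) ≃+ (Fin l → ℤ) :=
    ((repAut cs hp.isCartan w).trans θ).trans (repAut cs hp.isCartan w⁻¹) with hθ₁
  have hθ₁a : ∀ x, θ₁ x = rep cs hp.isCartan w⁻¹ (θ (rep cs hp.isCartan w x)) := fun _ => rfl
  have hl1 : ∀ x, lam' (θ₁ x) = lam' x := by
    intro x
    rw [hlam', hθ₁a, ← rep_mul_apply, mul_inv_cancel, map_one, Module.End.one_apply, hlam, hlam']
  -- the adjustment of the positive roots of the Levi subgroup
  obtain ⟨v, ⟨⟨mv, hmv, hmv'⟩, hv2⟩, hpos⟩ := exists_adjust (cs := cs) (h := hp.isCartan) (ZL cs hp.isCartan lam')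
    (VL H lam') (fun a ha => exists_rfl_VL H lam' ha) θ₁ (fun a ha => (F₁.root a).2 ha)
  have F₂ := F₁.mul (Fr.conj H hmv')
  have e2 : MulAut.conj n₁ * σ * MulAut.conj mv = MulAut.conj (n₁ * σ mv) * σ := by
    refine MulEquiv.ext fun y => ?_
    show n₁ * σ (mv * y * mv⁻¹) * n₁⁻¹ = n₁ * σ mv * σ y * (n₁ * σ mv)⁻¹
    rw [map_mul, map_mul, map_inv]; group
  rw [e2] at F₂
  set n₂ := n₁ * σ mv with hn₂
  set θ₂ : (Fin l → ℤ) ≃+ (Fin l → ℤ) := (repAut cs hp.isCartan v).trans θ₁ with hθ₂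
  have hθ₂a : ∀ x, θ₂ x = θ₁ (rep cs hp.isCartan v x) := fun _ => rfl
  have hl2 : ∀ x, lam' (θ₂ x) = lam' x := fun x => by rw [hθ₂a, hl1, hv2]
  have hpos2 : ∀ a, IsRoot cs hp.isCartan a → 0 ≤ a → 0 ≤ θ₂ a := by
    intro a ha h0
    rcases eq_or_lt_of_le (hw a ha h0) with h1 | h1
    · exact hpos a ⟨ha, h1.symm⟩ h0
    · rcases ((F₂.root a).2 ha).pos_or_neg with h2 | h2
      · exact h2
      · exfalso
        have h3 := hw _ ((F₂.root a).2 ha).neg (neg_nonneg.2 h2)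
        have h4 : lam (rep cs hp.isCartan w (-θ₂ a)) = - lam' a := by
          rw [← hlam', map_neg, hl2]
        rw [h4] at h3
        have h5 : 0 < lam' a := h1
        omega
  -- `n₂` lies in the torus
  have Fn := F₂.mul FσL.inv
  have e3 : MulAut.conj n₂ * σ * σ⁻¹ = MulAut.conj n₂ := by group
  rw [e3] at Fn
  have hsep : ∀ a, IsRoot cs hp.isCartan a → ∃ s ∈ TL (Tj hp (k := k)), ∀ u ∈ XL (Xj hp (k := k)) a,
      u * s = s * u → u = 1 := by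
    rw [hTL, hXL]
    exact fun a ha => sep hp cs hk r ha
  obtain ⟨w', hw'⟩ := rp_of_normalizer H hG hsep (y := n₂) (fun x => Fn.tor x)
  have hTrans : ∀ {τ : MulAut ↥(D.group k)} {t : (Fin l → ℤ) ≃+ (Fin l → ℤ)},
      Fr cs hp.isCartan (TL (Tj hp (k := k))) (XL (Xj hp (k := k))) τ t → Fr cs hp.isCartan (TT D k) (XX D l k) τ t := by
    intro τ t h1
    rwa [hTL, hXL] at h1
  have Fw := hTrans (Fr.conj H hw')
  have hθw : repAut cs hp.isCartan w' = g.symm.trans θ₂ := fr_unique hp cs hk r Fw (hTrans Fn)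
  have hθw' : ∀ x, rep cs hp.isCartan w' x = θ₂ (g.symm x) := fun x => by
    have := congrArg (fun f : (Fin l → ℤ) ≃+ (Fin l → ℤ) => f x) hθw
    exact this
  have hw1 : w' = 1 := by
    apply eq_one_of_nonneg cs hp.isCartan w'
    intro i
    have h1 : IsRoot cs hp.isCartan (g.symm (sr i)) := by
      rw [← Fσ.root, AddEquiv.apply_symm_apply]; exact isRoot_sr cs hp.isCartan i
    have h2 : 0 ≤ g.symm (sr i) := by
      rw [← hg, AddEquiv.apply_symm_apply]; exact sr_nonneg i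
    have h3 := hpos2 _ h1 h2
    rw [← hθw'] at h3
    exact h3
  have hgθ : ∀ x, θ₂ x = g x := by
    intro x
    have h1 := hθw' (g x)
    rw [hw1, map_one, Module.End.one_apply, AddEquiv.symm_apply_apply] at h1
    exact h1.symm
  have hn₂T : n₂ ∈ TT D k := by
    rw [← hTL]
    rw [hw1] at hw'
    exact hw'.mem_of_one
  obtain ⟨s, hs, hns⟩ := H795.LangT.lang_torus hp hB hd he hσ Fσ hn₂T
  -- Lang in the Levi subgroup
  have hZ1 : ∀ a, θ₁ a ∈ ZL cs hp.isCartan lam' ↔ a ∈ ZL cs hp.isCartan lam' := fun a => by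
    show _ ∧ _ ↔ _ ∧ _
    rw [F₁.root, hl1]
  have hm' : n₁ * σ mv * n₁⁻¹ ∈ RGD.Sup (XL (Xj hp (k := k))) (ZL cs hp.isCartan lam') :=
    (F₁.mem_Sup (fun a ha => ha.1) hZ1 mv).2 hmv
  obtain ⟨y₀, hy₀, hy₀'⟩ := lang_fr hp cs he (hσ.conj_mul n₂) (hTrans F₂) (S := ZL cs hp.isCartan lam')
    (fun a ha => ha.1) (fun a ha => ⟨(F₂.root a).2 ha.1, by rw [hl2, ha.2]⟩) (m := (n₁ * σ mv * n₁⁻¹)⁻¹) (by
      rw [← hXL]; exact inv_mem hm')
  have e4 : n₁ = y₀⁻¹ * n₂ * σ y₀ := by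
    have h1 : (n₁ * σ mv * n₁⁻¹)⁻¹ * n₂ = n₁ := by rw [hn₂]; group
    rw [← h1, hy₀']
    show y₀⁻¹ * (n₂ * σ y₀ * n₂⁻¹) * n₂ = _
    group
  have e5 : n = kk * n₁ * (σ kk)⁻¹ := by rw [hn₁]; group
  have e6 : n = (s * y₀ * kk⁻¹)⁻¹ * σ (s * y₀ * kk⁻¹) := by
    rw [e5, e4, hns, map_mul, map_mul, map_inv]; group
  have hback : ∀ {S S' : Set (Fin l → ℤ)}, (∀ a ∈ S, IsRoot cs hp.isCartan a) →
      RGD.Sup (XL (Xj hp (k := k))) (ZL cs hp.isCartan lam') ≤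
        Subgroup.normalizer (RGD.Sup (XL (Xj hp (k := k))) S : Set ↥(D.group k)) →
      (∀ a ∈ S, rep cs hp.isCartan w a ∈ S') → ∀ y ∈ RGD.Sup (XX D l k) S,
        (s * y₀ * kk⁻¹)⁻¹ * y * (s * y₀ * kk⁻¹) ∈ RGD.Sup (XX D l k) S' := by
    intro S S' hS hn hSS y hy
    rw [← hXL] at hy hy₀ ⊢
    have h1 : s⁻¹ * y * s ∈ RGD.Sup (XL (Xj hp (k := k))) S := by
      have h2 := H.T_le_normalizer hS (show s ∈ TL (Tj hp (k := k)) by rw [hTL]; exact hs)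
      have h3 := (Subgroup.mem_normalizer_iff.1 (inv_mem h2) y).1 hy
      rwa [inv_inv] at h3
    have h4 : y₀⁻¹ * (s⁻¹ * y * s) * y₀ ∈ RGD.Sup (XL (Xj hp (k := k))) S := by
      have h3 := (Subgroup.mem_normalizer_iff.1 (inv_mem (hn hy₀)) _).1 h1
      rwa [inv_inv] at h3
    have h5 := H28.RG.conj_SupL H hkk hS hSS h4
    have e7 : (s * y₀ * kk⁻¹)⁻¹ * y * (s * y₀ * kk⁻¹) = kk * (y₀⁻¹ * (s⁻¹ * y * s) * y₀) * kk⁻¹ := by group
    rw [e7]; exact h5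
  refine ⟨s * y₀ * kk⁻¹, lam', w, e6, hw, fun x => by rw [← hgθ, hl2], hlam', ?_, ?_⟩
  · refine hback (fun a ha => ha.1) (Sup_le_norm_PL H lam' fun a ha => ⟨ha.1, ha.2.ge⟩) fun a ha => ?_
    exact ⟨ha.1.act w, ha.2⟩
  · refine hback (fun a ha => ha.1) ?_ fun a ha => ?_
    · rw [nl_eq_pl]
      exact Sup_le_norm_PL H (-lam') fun a ha => ⟨ha.1, by rw [AddMonoidHom.neg_apply, ha.2, neg_zero]⟩
    · exact ⟨ha.1.act w, ha.2⟩

end

end Cfsg.Agent.H256.EX
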